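import Cfsg.Agent.H22.Th
import Cfsg.Agent.H22.F22Cov

/-! The Thompson subgroups of the Sylow 2-subgroups of Fi22 and Fi23. -/

set_option autoImplicit false
set_option maxRecDepth 100000

namespace Cfsg.Agent.H22

open Cfsg.Agent.H58 Cfsg.Agent.H95 Cfsg.Agent.H96 Cfsg.Agent.H51.Fi Cfsg.Agent.H52.Fi Subgroup Matrix

theorem dc_of_sec {G G' : Type*} [Group G] [Group G'] {d : G} (hd : orderOf d = 2) {p : G → G'}
    (h : Sec0 (centralizer {d}) (closure {d}) p) :
    DC h.hom ⟨d, mem_centralizer_singleton_iff.2 rfl⟩ :=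
  ⟨h.hom_surj, Subtype.ext (mul_self_of_orderOf hd), fun e => ne_one_of_orderOf hd (congrArg
    Subtype.val e), fun g => Subtype.ext (mem_centralizer_singleton_iff.1 g.2), fun y => by
      rw [h.hom_apply, h.ker _ y.2, mem_closure_inv (mul_self_of_orderOf hd)]
      simp only [Subtype.ext_iff, OneMemClass.coe_one]⟩

namespace U6

theorem mem_Tr {x : L6} (hx : x ∈ E6) (h : ∀ y, y ≠ 0 → Commute x (tp y)) : x ∈ Tr.range := by
  obtain ⟨v, h1, h2, rfl⟩ := hx
  obtain ⟨y, rfl⟩ := exists_io (v := v) fun y => herm_of_commute h1 (herm_io y y) (by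
    by_cases e : y = 0
    · rw [← tp, tp_eq, e, show rk 0 = 1 from hx_inj (by decide +kernel), map_one]
      exact Commute.one_right _
    · exact h y e)
  exact ⟨_, (tp_eq y).symm⟩

theorem exists_avoid {c : H29.F4} (hc : c ≠ 0) {x : L6} (hx : x ∈ E6 ∩ Tr.range) :
    ∃ s, ∀ i, cj (Lv s) (tp (hyp c i)) ≠ x := by
  rw [E6_inter] at hx
  obtain ⟨y, hy, rfl⟩ := hx
  obtain ⟨i, k, a, e⟩ : ∃ i k : Fin 3, ∃ a : H29.F4,
      d3 (Pi.single i 1) (Pi.single i 1 + y) (Pi.single k a) = 1 := by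
    revert y; decide +kernel
  obtain ⟨s, e1, e2, -⟩ := exists_S3 e
  refine ⟨s, fun l h => tp_ne (x := hyp c l) (y := e0 + U6.e1) (by clear * - hc; revert c l; decide +kernel)
    (cj_injective (Lv s) (h.trans ?_))⟩
  rw [cj_Lv_tp, mulVec_add, e1, e2, ← add_assoc, tp_eq,
    show (Pi.single i 1 : V3) + Pi.single i 1 = 0 by clear * - i; revert i; decide +kernel, zero_add]

end U6

open U6

theorem th22 : ∃ P B : Subgroup Spor.Fi22, Nat.card P = 2 ^ 17 ∧ Th P B 10 ∧
    (D22 ∩ B).ncard = 22 ∧ closure {x | x ∈ D22 ∧ x ∈ P} = B := by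
  have := Fi22P.card_le.1
  obtain ⟨D6, hL⟩ := lev22
  obtain ⟨q, hq⟩ := hL.step a22 a22_mem
  have h := dc_of_sec (tt22.1 _ a22_mem) hq.toSec0
  have : Group.IsPerfect (centralizer {a22}) := closure_nb22 ▸ perfect_nb22
  have hj := emb_centralizer a22
  have hd : (centralizer {a22}).subtype ⟨a22, mem_centralizer_singleton_iff.2 rfl⟩ = a22 := rfl
  generalize hq.toSec0.hom = π at h
  generalize (⟨a22, mem_centralizer_singleton_iff.2 rfl⟩ : centralizer {a22}) = d at *
  generalize (centralizer {a22}).subtype = j at *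
  generalize (centralizer {a22} : Subgroup Spor.Fi22) = H at *
  obtain ⟨c, hc, E, p, hC⟩ := U6.exists_cv h
  obtain ⟨E, p, hC, hn⟩ := hC.exists_nb_eq hj (by rw [hd]; exact ⟨_, is22_T22.nb4.1.1⟩)
  have t0 := U6.th.cover h hC.li
  have t := t0.map hj.inj
  have c0 : Nat.card (Sy.comap π) = 2 ^ 16 := by rw [h.card_comap, card_Sy]; rfl
  have s0 : Syl (Sy.comap π) := Syl.of_card (k := 280665) c0 (by rw [h.card_eq, card_L6]; rfl)
    (by decide)
  have n22 := (U6.th.result ⟨IsPGroup.of_card card_Sy, by rw [index_Sy]; decide⟩ hj h hC.li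
    (fun g _ hx => conj_E6 g hx) hC.cl hn (s0.pg.toSylow s0.odd) _ rfl).2.2.1
  rw [ncard_E6_inter, IsPGroup.toSylow_coe, t0.thompson, hd] at n22
  rw [hd] at hn
  change nb D22 a22 = _ at hn
  have cS : Nat.card ((Sy.comap π).map j) = 2 ^ 16 := by rw [card_map_of_injective hj.inj, c0]
  have mS : ∀ y, j y ∈ (Sy.comap π).map j ↔ π y ∈ Sy := fun y => mem_map_iff_mem hj.inj
  have mB : ∀ y, j y ∈ (Tr.range.comap π).map j ↔ π y ∈ Tr.range := fun y => mem_map_iff_mem hj.inj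
  have rB : ∀ x ∈ (Tr.range.comap π).map j, ∃ y, j y = x := fun x hx => map_le_range _ _ hx
  have rS : ∀ x ∈ (Sy.comap π).map j, ∃ y, j y = x := fun x hx => map_le_range _ _ hx
  generalize (Sy.comap π).map j = S at *
  generalize (Tr.range.comap π).map j = B at *
  obtain ⟨T, hT⟩ := (IsPGroup.of_card cS).exists_le_sylow
  have cT : Nat.card T = 2 ^ 17 := by
    rw [T.card_eq_multiplicity, Fi22P.card_eq]; decide +kernel
  have i2 : S.relIndex T = 2 := by
    have := (S.subgroupOf T).card_mul_index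
    rw [Nat.card_congr (subgroupOfEquivOfLe hT).toEquiv, cS, cT] at this
    exact Nat.eq_of_mul_eq_mul_left (by positivity) this
  have m2 : ∀ x ∈ (T : Subgroup _), ∀ y ∈ (T : Subgroup _), x * y ∈ S ↔ (x ∈ S ↔ y ∈ S) :=
    fun x hx y hy => mul_mem_iff_of_index_two (a := (⟨x, hx⟩ : T)) (b := ⟨y, hy⟩) i2
  have cS' : ∀ x ∈ S, Commute x a22 := fun x hx => by
    obtain ⟨y, rfl⟩ := rS x hx; exact hd ▸ (h.cen y).map j
  have f1 : ∀ g ∈ (T : Subgroup _), Commute g a22 → g ∈ S := fun g hg e => by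
    by_contra hn
    have := card_dvd_of_le (show (T : Subgroup _) ≤ centralizer {a22} from fun y hy =>
      mem_centralizer_singleton_iff.2 (by
        by_cases e' : y ∈ S
        exacts [cS' y e', by
          simpa using (e.inv_left.mul_left (cS' _ ((m2 g hg y hy).2 (by tauto)))).eq]))
    rw [cT, is22_T22.card_cent1 a22_mem] at this
    exact absurd this (by decide)
  have f2 : ∀ g ∈ (T : Subgroup _), ∀ x ∈ B, cj g x ∈ B := fun g hg x => t.cj_mem fun y hy => by
    have := hT (t.le hy)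
    rw [cj_def, m2 _ (mul_mem hg this) _ (inv_mem hg), m2 _ hg _ this, inv_mem_iff]
    have := t.le hy
    tauto
  have aB : a22 ∈ B := hd ▸ (mB d).2 (h.map_d ▸ one_mem _)
  have pE : ∀ y ∈ E, j y ∈ nb D22 a22 := fun y hy => hn.ge ⟨y, hy, rfl⟩
  refine ⟨T, B, cT, ⟨t.le.trans hT, t.sq, t.card, fun F h1 h2 h3 => ?_⟩, ?_,
    le_antisymm ((closure_le _).2 fun x hx => ?_) fun x hx => ?_⟩
  · by_contra hF
    obtain ⟨g, hg, n1⟩ := SetLike.not_le_iff_exists.1 fun e => hF (t.uniq F e h2 h3)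
    have n2 : ¬ Commute g a22 := fun e => n1 (f1 g (h1 hg) e)
    have k1 : ((S ⊓ F).comap j).map j = S ⊓ F := map_comap_eq_self fun x hx => rS x hx.1
    have k2 : ((S ⊓ F).comap j).map π = Tr.range := eq_Tr_range
      (by rintro _ ⟨y, hy, rfl⟩; exact (mS y).1 hy.1)
      (by rintro _ ⟨y, hy, rfl⟩
          rw [← map_mul, hj.inj ((map_mul j y y).trans ((h2 _ hy.2).trans (map_one j).symm)), map_one])
      (by rw [h.card_map (S := (S ⊓ F).comap j) fun e => n2 (hd ▸ comm_of_sq h2 hg e.2),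
            ← card_map_of_injective hj.inj, k1]
          have e1 := (S.subgroupOf F).card_mul_index
          have e2 := relIndex_le_of_le_right (H := S) h1 (by omega)
          rw [← inf_subgroupOf_right, Nat.card_congr (subgroupOfEquivOfLe inf_le_right).toEquiv,
            inf_subgroupOf_right] at e1
          have := Nat.mul_le_mul_left (Nat.card ↥(S ⊓ F)) e2
          rw [i2, relIndex, e1] at this
          omega)
    have a' : cj g a22 ∈ nb D22 a22 := ⟨conj22 g a22_mem, fun e => n2 (cj_eq_self_iff.1 e),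
      comm_of_sq t.sq aB (f2 g (h1 hg) _ aB)⟩
    have k3 : ∀ y ∈ E, π y ∈ Tr.range → j y ≠ cj g a22 → Commute g (j y) := fun y hy e n => by
      obtain ⟨z, hz, e1⟩ := k2.ge e
      have e2 := comm_of_sq h2 hg hz.2
      rcases h.eq_or e1.symm with rfl | rfl
      · exact e2
      rw [map_mul, hd, ← cj_eq_self_iff, cj_mul_cj] at e2
      have := (pE y hy).2
      rcases is22_T22.pair_eq (pE y hy).1 ⟨a22_mem, this.1.symm, this.2.symm⟩ (conj22 g a22_mem)
        ((cj_mem_nb_iff T22 g _ _).2 (pE y hy))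
        ((((commute_cj g).2 this.2).eq).trans e2) with e3 | e3
      exacts [(n e3.symm).elim, (a'.2.1 e3).elim]
    obtain ⟨x, hx, e⟩ := hn.le a'
    obtain ⟨s, hs⟩ := exists_avoid hc ⟨hC.cl.map_mem hx, (mB x).1 (e ▸ f2 g (h1 hg) _ aB)⟩
    obtain ⟨k, hk⟩ := h.surj (Lv s)
    have k4 : ∀ i, Commute g (j (cj k (p i))) := fun i => k3 _ (hC.cl.conj k _ (hC.pmem i))
      (by rw [map_cj, hk, hC.pmap, cj_Lv_tp, tp_eq]; exact ⟨_, rfl⟩) fun e' =>
        hs i (by rw [← hk, ← hC.pmap, ← map_cj, hj.inj (e'.trans e.symm)])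
    refine n2 ?_
    rw [← hd, ← h.cj_d k, ← hC.prod]
    simp only [cj_mul_cj, map_mul]
    exact (((((k4 0).mul_right (k4 1)).mul_right (k4 2)).mul_right (k4 3)).mul_right
      (k4 4)).mul_right (k4 5)
  · exact (congrArg _ (Set.ext fun x => and_comm)).trans n22
  · have k : ∀ y ∈ D22, y ∈ B → Commute x y := fun y hy e =>
      TT.commute_of_isPGroup tt22 (by decide) T.isPGroup' hx.1 hy (mul_mem hx.2 (hT (t.le e)))
    by_cases e : x = a22
    · exact e ▸ aB
    obtain ⟨y, hy, rfl⟩ := hn.le ⟨hx.1, e, (k _ a22_mem aB).symm⟩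
    refine (mB y).2 (mem_Tr (hC.cl.map_mem hy) fun z hz => ?_)
    obtain ⟨u, hu, e1⟩ := hC.cl.exists_lift (tp_mem hz)
    exact e1 ▸ (Commute.of_map hj.inj (k _ (pE u hu).1 ((mB u).2 ⟨_, (e1.trans (tp_eq z)).symm⟩))).map π
  · obtain ⟨y, rfl⟩ := rB x hx
    obtain ⟨K, e⟩ := (mB y).1 hx
    obtain ⟨z, hz, e1⟩ := Tr_mem (M := ((closure {x | x ∈ D22 ∧ x ∈ (T : Subgroup _)}).comap j).map π)
      (fun z hz => by
        obtain ⟨u, hu, e1⟩ := hC.cl.exists_lift (tp_mem hz)
        exact ⟨u, subset_closure ⟨(pE u hu).1,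
          hT (t.le ((mB u).2 ⟨_, (e1.trans (tp_eq z)).symm⟩))⟩, e1⟩) K
    rcases h.eq_or (e1.trans e) with rfl | rfl
    · exact hz
    · rw [map_mul, hd]; exact mul_mem hz (subset_closure ⟨a22_mem, hT (t.le aB)⟩)

theorem syl22 {P : Subgroup Spor.Fi22} (h : Nat.card P = 2 ^ 17) : Syl P :=
  have := Fi22P.card_le.1
  Syl.of_card (k := 492567075) h (by rw [Fi22P.card_eq]; rfl) (by decide)

theorem th23 : ∃ P B : Subgroup Spor.Fi23, Syl P ∧ Th P B 11 := by
  have := Fi23P.card_le.1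
  obtain ⟨P, B, h1, h2, -⟩ := th22
  obtain ⟨q, hq⟩ := lev23.step _ a23_mem
  have h := dc_of_sec (tt23.1 _ a23_mem) hq.toSec0
  refine ⟨_, _, Syl.of_card (m := 18) (k := 15600091832325) ?_ (by rw [Fi23P.card_eq]; rfl)
    (by decide), (h2.cover h (F22.li h)).map (subtype_injective _)⟩
  rw [card_map_of_injective (subtype_injective _), h.card_comap, h1]; rfl

end Cfsg.Agent.H22
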